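import Cfsg.Agent.BZ.C2.McL
import Cfsg.Agent.BZ.Comp.Main
import Cfsg.Agent.TAB.ON.Tab
import Cfsg.Agent.TAB.Sm2.M22
import Cfsg.Agent.SP.NegS.M22F

/-!
# BZ, the covers `3.M22`, `3.ON`, `3.McL` (helper48)

`Fd K n` : there is an irreducible character of degree `n` which is faithful on the centre.
-/

set_option autoImplicit false
set_option linter.unusedSectionVars false
set_option maxRecDepth 100000

namespace Cfsg.Agent.BZ.C2

open Cfsg Subgroup Cfsg.Agent.TAB Cfsg.Agent.TAB.Eng Cfsg.Agent.TAB.Use Cfsg.Agent.BZ.T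

/-- a faithful character of degree `n` -/
def Fd (K : Type) [Group K] (n : ℕ) : Prop :=
  ∃ χ : IrrCharacter K, (∀ z ∈ center K, (χ : K → ℂ) z = (χ : K → ℂ) 1 → z = 1) ∧ charDegree (χ : K → ℂ) = n

variable {p r : ℕ} [hp : Fact p.Prime] [hr : Fact r.Prime] {M : Ideal AlgInt} {K S : Type} [Group K] [Finite K] [Group S]
  {σ : K →* S} {B : Set (IrrCharacter K)} {D : Subgroup K}

theorem ext_of (H : Hyp p M B D σ) (hc : Nat.card (center K) = r) : Comp.Ext r σ :=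
  ⟨H.surj, H.ker.le, IsPGroup.of_card (n := 1) (by rw [H.ker, hc, pow_one])⟩

/-- a faithful central character -/
theorem exists_nu (H : Hyp p M B D σ) (hc : Nat.card (center K) = r) : ∃ ν : σ.ker →* ℂˣ, ∀ (χ : IrrCharacter K) (n : ℕ),
    Comp.Ov σ ν χ → (χ : K → ℂ) 1 = n → Fd K n := by
  have h1 : Nontrivial (center K) := Finite.one_lt_card_iff_nontrivial.1 (hc ▸ hr.out.one_lt)
  obtain ⟨z, hz⟩ := exists_ne (1 : center K)
  letI : CommGroup (center K) :=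
    { (inferInstance : Group (center K)) with mul_comm := fun a b => Subtype.ext (mem_center_iff.1 b.2 a) }
  obtain ⟨φ, hφ⟩ := CommGroup.exists_apply_ne_one_of_hasEnoughRootsOfUnity (center K) ℂ hz
  refine ⟨φ.comp (inclusion H.ker.le), fun χ n ho hn => ⟨χ, faith_of_prime hr.out hc z.2 fun e => hφ ?_, by
    simp [charDegree, hn]⟩⟩
  have h2 := ho ⟨z, H.ker.ge z.2⟩
  rw [e] at h2
  exact Units.ext ((mul_eq_right₀ (Blocks.Basic.irr_one_ne_zero χ.2)).1 h2.symm)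

variable {E : Dat} {T : TD S E} {R : Rows}

/-- the degree of a character of `r`-defect zero -/
theorem fd_dz (H : Hyp p M B D σ) (hc : Nat.card (center K) = r) (hm : T.Mass) (hT : Tab T R) (j e n : ℕ)
    (h : j < R.n ∧ R.d j = n ∧ r ^ e ∣ n ∧ r ^ e ∣ E.N ∧ ¬ r ^ (e + 1) ∣ E.N) : Fd K n := by
  have := Finite.of_surjective σ H.surj
  obtain ⟨ν, hν⟩ := exists_nu H hc
  obtain ⟨φ, hE, -⟩ := hT
  obtain ⟨h1, rfl, h2, h3, h4⟩ := h
  obtain ⟨χ, h5, h6⟩ := Comp.dz (ext_of H hc) ν (hE.irr j h1) fun g =>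
    zero_of_dz (hE.irr j h1) (hE.deg j h1) hr.out (hm.1 ▸ h3) (hm.1 ▸ h4) h2
  exact hν χ _ h5 (by rw [h6 1 Comp.reg_one, map_one, hE.deg j h1])

/-- the degrees in an `r`-block of defect one with three members and two Brauer characters -/
theorem fd_two (H : Hyp p M B D σ) (hc : Nat.card (center K) = r) (hT : Tab T R) (a c : Fin 3 → ℕ) (h1 : Comp.rowsB R a c)
    (hA : ∀ t < E.n, ¬ r ∣ E.ord t → Comp.rv R (a 2) t = Comp.rv R (a 0) t + Comp.rv R (a 1) t)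
    (hB : ∀ t < E.n, r ∣ E.ord t → Comp.rv R (a 0) t + Comp.rv R (a 2) t = 0 ∧ Comp.rv R (a 1) t + Comp.rv R (a 2) t = 0)
    (j : Fin 3) (n : ℕ) (h : ∀ t < E.n, E.ord t = 1 → Comp.rv R (a j) t = n) : Fd K n := by
  obtain ⟨ν, hν⟩ := exists_nu H hc
  obtain ⟨χ, h5, h6⟩ := Comp.two_tab (ext_of H hc) ν hT a c h1 hA hB j
  exact hν χ _ h5 (by rw [h6 1 Comp.reg_one, h _ (T.lt _) (by rw [← T.ord, map_one, orderOf_one]), Int.cast_natCast])

theorem Fd.xp {n d a : ℕ} (h : Fd K n) (H : Hyp p M B D σ) (h3 : BHZ.Spor.RegTriv p (D.map σ)) (hR : Reg p d S)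
    (h1 : p ∣ n) (h2 : ¬ p ^ (a + 1) ∣ n) (h4 : p ^ (a + d) ∣ Nat.card S) : ¬ XP p K B := by
  have := Finite.of_surjective σ H.surj
  obtain ⟨χ, hf, rfl⟩ := h
  refine H.not_XP h3 χ hf (H.ce.top_of_crit H.hM hR χ ?_) h1
  have h5 := (hp.out.pow_dvd_iff_le_factorization Nat.card_pos.ne').1 h4
  have h6 := mt (hp.out.pow_dvd_iff_le_factorization (Blocks.Basic.charDegree_pos χ.2).ne').2 h2
  omega

theorem Fd.xt {n m : ℕ} (h : Fd K n) (h' : Fd K m) (H : Hyp p M B D σ) (h3 : BHZ.Spor.RegTriv p (D.map σ))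
    (h1 : ¬ p ∣ n) (h2 : ¬ p ∣ m) (h4 : n ≠ m) : ¬ XT p K B := by
  obtain ⟨χ, hf, rfl⟩ := h
  obtain ⟨ψ, hf', rfl⟩ := h'
  exact H.not_XT h3 χ ψ hf hf' h1 h2 h4

/-! ### `3.M22` -/

theorem m22_reg : Reg 2 3 Spor.M22 := by
  have : Fact (Nat.Prime 2) := ⟨Nat.prime_two⟩
  obtain ⟨T, hm, -⟩ := Sm2.M22.tab
  have : Finite Spor.M22 := Nat.finite_of_card_ne_zero (by rw [hm.1]; decide)
  intro y h1 h2 h3
  obtain ⟨x, hx⟩ := exists_prime_orderOf_dvd_card' 2 ((dvd_pow_self 2 three_ne_zero).trans h3)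
  rw [← orderOf_coe] at hx
  have h4 := Commute.orderOf_mul_eq_mul_orderOf_of_coprime (mem_centralizer_singleton_iff.1 x.2)
    (by rw [hx]; exact Nat.prime_two.coprime_iff_not_dvd.2 h1)
  have key : ∀ i < 10, ∀ j < 10, Sm2.M22.dat.ord j = 2 * Sm2.M22.dat.ord i → 2 ∣ Sm2.M22.dat.ord i ∨
      Sm2.M22.dat.ord i = 1 ∨ Sm2.M22.dat.ord i = 3 ∧ Sm2.M22.dat.cnt i = 12320 := by decide +kernel
  obtain ⟨h5, h6⟩ := ((key _ (T.lt y) _ (T.lt (x * y)) (by rw [← T.ord, ← T.ord, h4, hx])).resolve_left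
    (by rwa [← T.ord])).resolve_left (by rw [← T.ord]; exact fun e => h2 (orderOf_eq_one_iff.1 e))
  have h7 : Nat.card (centralizer ({y} : Set Spor.M22)) ≤ 36 := SP.NegS.M22.cent3 h2 (k := 1) (by rw [pow_one, ← h5, ← T.ord, pow_orderOf_eq_one])
  have h8 := KM.Sp.le_cnt hm y
  rw [h6, show Sm2.M22.dat.N = 443520 from rfl] at h8
  omega

theorem m22 : Cov XP 3 2 Spor.M22 ∧ Cov XT 3 2 Spor.M22 := by
  have : Fact (Nat.Prime 2) := ⟨Nat.prime_two⟩
  have : Fact (Nat.Prime 3) := ⟨Nat.prime_three⟩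
  obtain ⟨T, hm, hT, -⟩ := Sm2.M22.tab
  have : Finite Spor.M22 := Nat.finite_of_card_ne_zero (by rw [hm.1]; decide)
  have hR := m22_reg
  have key := fun (K : Type) [Group K] [Finite K] (σ : K →* Spor.M22) M B D (H : Hyp 2 M B D σ) hc =>
    fd_two (r := 3) H hc hT ![1, 5, 6] ![1, 5, 6] (by decide +kernel) (by decide +kernel) (by decide +kernel)
  exact ⟨fun K _ _ σ M B D H hc => (key K σ M B D H hc 1 210 (by decide +kernel)).xp (a := 1) H (H.rt_of_reg hR) hR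
      (by decide) (by decide) (by rw [hm.1]; decide),
    fun K _ _ σ M B D H hc => (key K σ M B D H hc 0 21 (by decide +kernel)).xt (key K σ M B D H hc 2 231 (by decide +kernel))
      H (H.rt_of_reg hR) (by decide) (by decide) (by decide)⟩

theorem m22_3_2 : ∀ (S : Type) [Group S] [Finite S], Spor.IsoM22 S → Cov XP 3 2 S := fun _ _ _ h =>
  h.elim fun e => m22.1.of_equiv e

theorem m22_3_2T : ∀ (S : Type) [Group S] [Finite S], Spor.IsoM22 S → Cov XT 3 2 S := fun _ _ _ h =>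
  h.elim fun e => m22.2.of_equiv e

/-! ### `3.ON` -/

theorem on7 : Cov XP 3 7 Spor.ON ∧ Cov XT 3 7 Spor.ON := by
  have : Fact (Nat.Prime 7) := ⟨by norm_num⟩
  have : Fact (Nat.Prime 3) := ⟨Nat.prime_three⟩
  obtain ⟨T, hm, -, -, hT⟩ := ON.exists_tab
  have : Finite Spor.ON := Nat.finite_of_card_ne_zero (by rw [hm.1]; decide)
  have hR := reg_of_tab (p := 7) hm hT (d := 1) (by decide +kernel)
  exact ⟨fun K _ _ σ M B D H hc => (fd_dz (r := 3) H hc hm hT 24 4 175770 (by decide +kernel)).xp (a := 1) H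
      (H.rt_of_reg (hR.mono (by decide))) hR (by decide) (by decide) (by rw [hm.1]; decide),
    fun K _ _ σ M B D H hc => (fd_dz (r := 3) H hc hm hT 20 4 169290 (by decide +kernel)).xt
      (fd_dz (r := 3) H hc hm hT 25 4 207360 (by decide +kernel)) H (H.rt_of_reg (hR.mono (by decide))) (by decide) (by decide)
      (by decide)⟩

theorem on_3_7 : ∀ (S : Type) [Group S] [Finite S], Spor.IsoON S → Cov XP 3 7 S := fun _ _ _ h =>
  h.elim fun e => on7.1.of_equiv e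

theorem on_3_7T : ∀ (S : Type) [Group S] [Finite S], Spor.IsoON S → Cov XT 3 7 S := fun _ _ _ h =>
  h.elim fun e => on7.2.of_equiv e

theorem on2 : Cov XP 3 2 Spor.ON := by
  have : Fact (Nat.Prime 2) := ⟨Nat.prime_two⟩
  have : Fact (Nat.Prime 3) := ⟨Nat.prime_three⟩
  obtain ⟨T, hm, -, -, hT⟩ := ON.exists_tab
  have : Finite Spor.ON := Nat.finite_of_card_ne_zero (by rw [hm.1]; decide)
  have hR := reg_of_tab (p := 2) hm hT (d := 3) (by decide +kernel)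
  intro K _ _ σ M B D H hc
  exact (eight_or H hR).elim (not_XP_eight H) fun h => (fd_dz (r := 3) H hc hm hT 24 4 175770 (by decide +kernel)).xp (a := 1) H
    h hR (by decide) (by decide) (by rw [hm.1]; decide)

theorem on_3_2 : ∀ (S : Type) [Group S] [Finite S], Spor.IsoON S → Cov XP 3 2 S := fun _ _ _ h =>
  h.elim fun e => on2.of_equiv e

/-! ### `3.McL` -/

theorem mcl_3_5T : ∀ (S : Type) [Group S] [Finite S], Spor.IsoMcL S → Cov XT 3 5 S := by
  have : Fact (Nat.Prime 5) := ⟨by norm_num⟩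
  have : Fact (Nat.Prime 3) := ⟨Nat.prime_three⟩
  rintro S _ _ ⟨e⟩
  obtain ⟨f⟩ := H359.CT.McL.iso_K0
  obtain ⟨T, hm, -, hT, -⟩ := McL.tabK
  exact Cov.of_equiv (e.trans f.symm) fun K _ _ σ M B D H hc => (fd_dz (r := 3) H hc hm hT 9 6 5103 (by decide +kernel)).xt
    (fd_dz (r := 3) H hc hm hT 16 6 8019 (by decide +kernel)) H (H.rt_of_reg (reg_of_tab hm hT (d := 2) (by decide +kernel)))
    (by decide) (by decide) (by decide)

end Cfsg.Agent.BZ.C2
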