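import Cfsg.Agent.BZ.T.Crit
import Cfsg.Agent.KM.Sp.Eng
import Cfsg.Agent.S4528
import Cfsg.Agent.S4530
import Cfsg.Agent.S4622
import Cfsg.Agent.S0972
import Cfsg.Agent.S0912
import Cfsg.Agent.S0917
import Cfsg.Agent.H592.Defect
import Cfsg.Agent.H669.Basic
import Cfsg.Agent.SmallSimple.OrderEight

/-!
# BZ, sporadic covers: three tools (helper48)

* `reg_of_tab` : `Reg p d G` from a table; `not_XP_eight` : defect groups of order `8`;
* `not_XP_ti` : trivial intersection defect groups; `ti_of_count` : the counting criterion.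
-/

set_option autoImplicit false
set_option linter.unusedSectionVars false

namespace Cfsg.Agent.BZ.C2

open Cfsg Subgroup Cfsg.Agent.TAB.Eng Cfsg.Agent.TAB.Use Cfsg.Agent.BZ.T
open scoped Pointwise

section tab

variable {G : Type} [Group G] [Finite G] {D : Dat} {T : TD G D} {R : Rows} {p : ℕ} [hp : Fact p.Prime]

/-- the check -/
def regB (D : Dat) (R : Rows) (p d : ℕ) : Bool :=
  (List.range D.n).all fun i => D.ord i == 1 || D.ord i % p == 0 ||
    KM.Sp.cbg D R [] i (List.range R.rel.length) % p ^ (d + 1) != 0 || (List.range D.n).all fun j => D.ord j != p * D.ord i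

theorem reg_of_tab (hm : T.Mass) (hT : Tab T R) {d : ℕ} (h : regB D R p d = true) : Reg p (d + 1) G := by
  intro y h1 h2 h3
  have h4 := List.all_eq_true.1 h _ (List.mem_range.2 (T.lt y))
  simp only [Bool.or_eq_true, beq_iff_eq, bne_iff_ne, ← T.ord, List.all_eq_true, List.mem_range] at h4
  rcases h4 with ((h4 | h4) | h4) | h4
  · exact h2 (orderOf_eq_one_iff.1 h4)
  · exact h1 (Nat.dvd_of_mod_eq_zero h4)
  · exact h4 (Nat.mod_eq_zero_of_dvd (h3.trans (KM.Sp.card_dvd_cbg (KM.Sp.Hy.nil hm hT) y _)))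
  · obtain ⟨x, hx⟩ := exists_prime_orderOf_dvd_card' p ((dvd_pow_self p d.succ_ne_zero).trans h3)
    rw [← orderOf_coe] at hx
    refine h4 _ (T.lt (x * y)) ?_
    rw [← T.ord, Commute.orderOf_mul_eq_mul_orderOf_of_coprime (mem_centralizer_singleton_iff.1 x.2)
      (by rw [hx]; exact hp.out.coprime_iff_not_dvd.2 h1), hx]

end tab

variable {p : ℕ} [hp : Fact p.Prime] {M : Ideal AlgInt} {K S : Type} [Group K] [Finite K] [Group S] {σ : K →* S}
  {B : Set (IrrCharacter K)} {D : Subgroup K}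

theorem card_hz (h : XP p K B) : Nat.card {χ : IrrCharacter K // χ ∈ B ∧ blockHeight p B (χ : K → ℂ) = 0} = Nat.card B :=
  Nat.card_congr (Equiv.subtypeEquivRight fun χ => ⟨fun h1 => h1.1, fun h1 => ⟨h1, h χ h1⟩⟩)

/-- non-abelian defect groups of order `8` -/
theorem not_XP_eight (H : Hyp 2 M B D σ) (h8 : Nat.card D = 8) : ¬ XP 2 K B := fun h => by
  have : Fact (Nat.Prime 2) := ⟨Nat.prime_two⟩
  have h1 := card_hz h
  rcases SmallSimple.OrderEight.dihedral_or_quaternion_of_card_eight h8 H.nab with h2 | h2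
  · obtain ⟨h3, -, -, h4, -⟩ := S4528.result M H.hM B H.hB D H.hD 3 le_rfl h2
    omega
  · obtain ⟨h3, -, h4, h5, -⟩ := S4530.result M H.hM B H.hB D H.hD 3 le_rfl h2
    omega

/-- the alternative for `p = 2` -/
theorem eight_or (H : Hyp 2 M B D σ) (h : Reg 2 4 S) : Nat.card D = 8 ∨ BHZ.Spor.RegTriv 2 (D.map σ) := by
  have : Fact (Nat.Prime 2) := ⟨Nat.prime_two⟩
  obtain ⟨k, hk⟩ := IsPGroup.iff_card.1 H.pg
  have h1 := H.cube_dvd
  rw [hk, Nat.pow_dvd_pow_iff_le_right (by norm_num)] at h1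
  rcases h1.eq_or_lt with rfl | h1
  · exact Or.inl hk
  · exact Or.inr (H.ce.rt_of_reg h (hk ▸ pow_dvd_pow 2 h1))

/-- **trivial intersection defect groups** -/
theorem not_XP_ti (hO : pCore p K = ⊥) (hM : IsPModular p M) (hB : IsPBlock M B) (hD : IsDefectGroup p M B D)
    (hn : ¬ IsMulCommutative D) (hTI : ∀ g : K, g ∉ normalizer (D : Set K) → D ⊓ (MulAut.conj g • D) = ⊥) :
    ¬ XP p K B := fun h => by
  have hf := Characters.Core.finite_irr (G := K)
  have hf' := Characters.Core.finite_irr (G := normalizer (D : Set K))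
  have hDp := H592.Defect.isPGroup_of_isDefectGroup hD
  have hD1 : D ≠ ⊥ := fun e => hn (e ▸ inferInstance)
  have key : ∀ {X : Type} [Group X] [Finite X] (χ : IrrCharacter X), ∃ d,
      (Nat.card X).factorization p = d + (charDegree (χ : X → ℂ)).factorization p := fun χ =>
    ⟨_, (Nat.sub_add_cancel ((Nat.factorization_le_iff_dvd (Blocks.Basic.charDegree_pos χ.2).ne' Nat.card_pos.ne').2
      (H669.Basic.charDegree_dvd_card χ.2) p)).symm⟩
  obtain ⟨χ, rfl⟩ := id hB
  have hχ : χ ∈ blockOf M (χ : K → ℂ) :=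
    have := Blocks.Local.isPrime_of_isPModular hM
    Blocks.Basic.sameBlock_refl _
  obtain ⟨d, hd⟩ := key χ
  have h1 := S4622.result p hO M hM _ hB D hD hD1 hTI
  have h2 := (Nat.card_pos_iff.2 ⟨⟨(⟨χ, hχ, hd⟩ : {χ' : IrrCharacter K // χ' ∈ blockOf M (χ : K → ℂ) ∧
    (Nat.card K).factorization p = d + (charDegree (χ' : K → ℂ)).factorization p})⟩, inferInstance⟩).ne'
  rw [h1] at h2
  obtain ⟨⟨ψ, ⟨b, hψ, hi⟩, h3⟩⟩ := (Nat.card_ne_zero.1 h2).1
  obtain ⟨E, hE⟩ := H592.Defect.exists_defectGroup p hM hi.1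
  have h4 : D.subgroupOf (normalizer (D : Set K)) ≤ E :=
    (Lib.Cores.le_pCore normal_in_normalizer hDp.comap_subtype).trans (S0912.result p M hM b hi.1 E hE)
  obtain ⟨E', hE', h5⟩ := S0917.result p M hM _ b hi.1 _ hB hi E hE
  have h6 := (Nat.factorization_le_iff_dvd Nat.card_pos.ne' Nat.card_pos.ne').2 (card_dvd_of_le h5) p
  rw [card_map_of_injective (subtype_injective _), H592.Defect.factorization_card_defect p hM hB hE',
    ← H592.Defect.factorization_card_defect p hM hB hD,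
    ← Nat.card_congr (subgroupOfEquivOfLe (le_normalizer (H := D))).toEquiv] at h6
  have h9 : D.subgroupOf (normalizer (D : Set K)) = E :=
    H592.Defect.eq_of_le_of_factorization p hDp.comap_subtype (H592.Defect.isPGroup_of_isDefectGroup hE) h4 h6
  rw [← h9] at hE
  have h7 : ∀ φ ∈ b, (charDegree (φ : normalizer (D : Set K) → ℂ)).factorization p =
      (charDegree (ψ : normalizer (D : Set K) → ℂ)).factorization p := fun φ hφ => by
    obtain ⟨e, he⟩ := key φ
    have h8 := (Nat.card_pos_iff.2 ⟨⟨(⟨φ, ⟨b, hφ, hi⟩, he⟩ : {ψ : IrrCharacter (normalizer (D : Set K)) //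
      (∃ b, ψ ∈ b ∧ IsInducedBlock M (normalizer (D : Set K)) b (blockOf M (χ : K → ℂ))) ∧
      (Nat.card (normalizer (D : Set K))).factorization p = e + (charDegree (ψ : normalizer (D : Set K) → ℂ)).factorization p})⟩,
      inferInstance⟩).ne'
    rw [← h1] at h8
    obtain ⟨⟨χ', h10, h11⟩⟩ := (Nat.card_ne_zero.1 h8).1
    have h12 := not_not.1 fun e => not_XP_of_ne h10 hχ e h
    omega
  have h8 := (S0972.result p M hM b hi.1 _ hE).2 fun φ hφ => by
    obtain ⟨φ', h10, h11⟩ := Nat.sInf_mem (s := (fun ψ : IrrCharacter (normalizer (D : Set K)) =>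
      (charDegree (ψ : normalizer (D : Set K) → ℂ)).factorization p) '' b) ⟨_, ψ, hψ, rfl⟩
    rw [blockHeight, ← h11, h7 φ hφ]
    exact Nat.sub_eq_zero_of_le (h7 φ' h10).ge
  exact hn ⟨⟨fun x y => Subtype.ext (congrArg (fun z : normalizer (D : Set K) => (z : K))
    (h8 ⟨x, le_normalizer x.2⟩ x.2 ⟨y, le_normalizer y.2⟩ y.2))⟩⟩

/-- every non-trivial `p`-element lies in only one Sylow subgroup -/
def TI (p : ℕ) (S : Type) [Group S] : Prop := ∀ (P Q : Sylow p S) (x : S), x ≠ 1 → x ∈ P → x ∈ Q → P = Q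

theorem ti_of_count [Finite S] {n : ℕ} (P : Sylow p S) (h1 : Nat.card (Sylow p S) * (Nat.card P - 1) ≤ n)
    (h2 : n ≤ Nat.card {x : S // x ≠ 1 ∧ ∃ k, orderOf x = p ^ k}) : TI p S := by
  let f : (Σ Q : Sylow p S, {x : Q // x ≠ 1}) → {x : S // x ≠ 1 ∧ ∃ k, orderOf x = p ^ k} := fun z =>
    ⟨z.2.1, fun e => z.2.2 (Subtype.ext e), by
      obtain ⟨k, hk⟩ := IsPGroup.iff_orderOf.1 z.1.isPGroup' z.2.1
      exact ⟨k, by rw [← hk, orderOf_coe]⟩⟩
  have hf : Function.Surjective f := by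
    rintro ⟨x, hx, k, hk⟩
    obtain ⟨Q, hQ⟩ := (IsPGroup.of_card (by rw [Nat.card_zpowers, hk]) : IsPGroup p (zpowers x)).exists_le_sylow
    exact ⟨⟨Q, ⟨x, hQ (mem_zpowers x)⟩, fun e => hx (congrArg Subtype.val e)⟩, rfl⟩
  have hc : Nat.card (Σ Q : Sylow p S, {x : Q // x ≠ 1}) = Nat.card (Sylow p S) * (Nat.card P - 1) := by
    classical
    have := Fintype.ofFinite (Sylow p S)
    have h3 : ∀ Q : Sylow p S, Nat.card {x : Q // x ≠ 1} = Nat.card P - 1 := fun Q => by
      have := Fintype.ofFinite Q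
      rw [← Nat.card_congr (Q.equiv P).toEquiv, Nat.card_eq_fintype_card, Nat.card_eq_fintype_card, Fintype.card_subtype_compl,
        Fintype.card_subtype_eq]
      rfl
    simp only [Nat.card_sigma, h3]
    rw [Finset.sum_const, Finset.card_univ, smul_eq_mul, Nat.card_eq_fintype_card (α := Sylow p S)]
  intro Q Q' x hx h3 h4
  exact congrArg Sigma.fst ((hf.bijective_of_nat_card_le (hc.le.trans (h1.trans h2))).1
    (a₁ := ⟨Q, ⟨x, h3⟩, fun e => hx (congrArg Subtype.val e)⟩) (a₂ := ⟨Q', ⟨x, h4⟩, fun e => hx (congrArg Subtype.val e)⟩) rfl)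

theorem TI.of_equiv {S' : Type} [Group S'] [Finite S] (e : S ≃* S') (h : TI p S') : TI p S := fun P Q x h1 h2 h3 => by
  have h4 := h (P.mapSurjective (f := e.toMonoidHom) e.surjective) (Q.mapSurjective (f := e.toMonoidHom) e.surjective) (e x)
    (fun h5 => h1 (e.map_eq_one_iff.1 h5)) ⟨x, h2, rfl⟩ ⟨x, h3, rfl⟩
  exact Sylow.ext (map_injective (f := e.toMonoidHom) e.injective (congrArg (fun X : Sylow p S' => (X : Subgroup S')) h4))

/-- the row for trivial intersection Sylow subgroups -/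
theorem Hyp.not_XP_ti (H : Hyp p M B D σ) (h3 : BHZ.Spor.RegTriv p (D.map σ)) (h : TI p S) (hO : pCore p K = ⊥) :
    ¬ XP p K B := by
  obtain ⟨P, hP⟩ := H.ce.syl_of_rt H.hM H.hB H.hD h3
  refine C2.not_XP_ti hO H.hM H.hB H.hD H.nab fun g hg => eq_bot_iff.2 fun x hx => ?_
  by_contra h1
  subst hP
  have hinj : ∀ (Q : Sylow p K), ∀ y ∈ Q, σ y = 1 → y = 1 := fun Q y hy h2 => by
    obtain ⟨k, hk⟩ := IsPGroup.iff_orderOf.1 Q.isPGroup' ⟨y, hy⟩
    rw [orderOf_mk] at hk
    rcases k with _ | k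
    · exact orderOf_eq_one_iff.1 hk
    · exact absurd (hk ▸ dvd_pow_self p k.succ_ne_zero) (H.ce.reg h2)
  have h2 := h (P.mapSurjective H.surj) ((g • P).mapSurjective H.surj) (σ x) (fun e => h1 (hinj P x hx.1 e))
    ⟨x, hx.1, rfl⟩ ⟨x, hx.2, rfl⟩
  refine hg (Sylow.smul_eq_iff_mem_normalizer.1 ?_)
  have h4 : ((g • P : Sylow p K) : Subgroup K) ≤ normalizer ((P : Subgroup K) : Set K) := fun y hy => by
    obtain ⟨u, hu, e⟩ : σ y ∈ P.mapSurjective H.surj := h2 ▸ ⟨y, hy, rfl⟩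
    have h5 : u⁻¹ * y ∈ center K := H.ker ▸ (show σ (u⁻¹ * y) = 1 by rw [map_mul, map_inv, e, inv_mul_cancel])
    rw [← mul_inv_cancel_left u y]
    exact mul_mem (le_normalizer hu) (center_le_normalizer _ h5)
  have h5 := (g • P).is_maximal' (IsPGroup.to_sup_of_normal_right' (g • P).isPGroup' P.isPGroup' h4) le_sup_left
  exact Sylow.ext (P.is_maximal' (g • P).isPGroup' (h5 ▸ le_sup_right))

end Cfsg.Agent.BZ.C2
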