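import Cfsg.Agent.BZ.C2.Tool
import Cfsg.Agent.TAB.McL.Main
import Cfsg.Agent.TAB.Eng.Cov
import Cfsg.Agent.H358.TwoTransMod4
import Cfsg.Agent.H184.CC.Gen

/-!
# BZ, `3.McL`, `p = 5`: the Sylow `5`-subgroups are trivial intersection sets (helper48)
-/

set_option autoImplicit false
set_option maxRecDepth 100000

namespace Cfsg.Agent.BZ.C2

open Cfsg Subgroup Cfsg.Agent.TAB Cfsg.Agent.TAB.Eng Cfsg.Agent.TAB.Use Cfsg.Agent.BZ.T

/-- a group of order `750` has only one Sylow `5`-subgroup -/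
theorem syl750 {C : Type} [Group C] [Finite C] (h : Nat.card C = 750) :
    ∃ U : Subgroup C, Nat.card U = 5 ^ 3 ∧ ∀ x : C, x ^ 5 ^ 3 = 1 → x ∈ U := by
  have : Fact (Nat.Prime 5) := ⟨by norm_num⟩
  obtain ⟨O, -, h1, h2⟩ := H358.TwoTransMod4.exists_odd (X := C) (by rw [h]; norm_num) (by rw [h]; norm_num)
  have h3 : Nat.card O = 375 := by
    have := O.card_mul_index
    rw [h1] at this
    omega
  let P : Sylow 5 O := default
  have h4 : Nat.card P = 5 ^ 3 := by
    rw [P.card_eq_multiplicity, h3, show (375 : ℕ) = 5 ^ 3 * 3 by norm_num, Nat.factorization_mul (by norm_num) (by norm_num),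
      Nat.Prime.factorization_pow (by norm_num), Nat.Prime.factorization (by norm_num)]
    simp
  have h5 : Nat.card (Sylow 5 O) = 1 := by
    have h6 := P.card_dvd_index
    have h7 := (P : Subgroup O).card_mul_index
    have h8 := card_sylow_modEq_one 5 O
    rw [show (P : Subgroup O).index = 3 by change Nat.card P * _ = _ at h7; rw [h4] at h7; omega] at h6
    rcases (Nat.dvd_prime Nat.prime_three).1 h6 with h9 | h9
    · exact h9
    · rw [h9] at h8
      exact absurd h8 (by decide)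
  refine ⟨(P : Subgroup O).map O.subtype, by rw [card_map_of_injective O.subtype_injective]; exact h4, fun x hx => ?_⟩
  have h6 : x ∈ O := (h2 x).2 (Odd.of_dvd_nat (by decide) (orderOf_dvd_of_pow_eq_one hx))
  obtain ⟨Q, hQ⟩ := (BHZ.Spor.isPGroup_zpowers (x := (⟨x, h6⟩ : O)) (Subtype.ext hx)).exists_le_sylow
  have := (Nat.card_eq_one_iff_unique.1 h5).1
  exact ⟨⟨x, h6⟩, Subsingleton.elim Q P ▸ hQ (mem_zpowers _), rfl⟩

theorem mcl_ti {G : Type} [Group G] [Finite G] {T : TD G McL.D} (hm : T.Mass) (hT : Tab T McL.RR) : TI 5 G := by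
  have : Fact (Nat.Prime 5) := ⟨by norm_num⟩
  obtain ⟨w, hw⟩ := inh_of_mass hm (by decide +kernel) 5 (by decide)
  have hG : Nat.card G = 898128000 := hm.1
  have h1 : Nat.card (centralizer ({w} : Set G)) = 750 := by
    have h2 := KM.Sp.card_dvd_cbg (KM.Sp.Hy.nil hm hT) w (List.range 18)
    have h3 := KM.Sp.le_cnt hm w
    rw [hw] at h2 h3
    rw [show KM.Sp.cbg McL.D McL.RR [] 5 (List.range 18) = 750 by decide +kernel] at h2
    have h4 := Nat.le_of_dvd (by norm_num) h2
    change 898128000 ≤ 1197504 * _ at h3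
    omega
  have hone : One T 5 := ⟨w, hw, by rw [h1, hG]; decide⟩
  have ho : orderOf w = 5 := by rw [T.ord, hw]; rfl
  obtain ⟨U, hU, hU'⟩ := syl750 h1
  have hc : Nat.card (U.map (centralizer ({w} : Set G)).subtype) = 5 ^ (Nat.card G).factorization 5 := by
    rw [card_map_of_injective (subtype_injective _), hU, hG, show (898128000 : ℕ) = 5 ^ 3 * 7185024 by norm_num,
      Nat.factorization_mul (by norm_num) (by norm_num), Nat.Prime.factorization_pow (by norm_num)]
    simp [Nat.factorization_eq_zero_of_not_dvd]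
  let P : Sylow 5 G := Sylow.ofCard _ hc
  have hP : Nat.card P = 5 ^ 3 := (card_map_of_injective (subtype_injective _)).trans hU
  have hN : ∀ t : G, ∀ k, t * w ^ k * t⁻¹ = w → t ∈ normalizer ((P : Subgroup G) : Set G) := fun t k ht =>
    mem_normalizer_fintype fun x hx => by
      obtain ⟨y, hy, rfl⟩ := hx
      have h2 : t * y * t⁻¹ ∈ centralizer ({w} : Set G) := by
        have h3 : Commute (y : G) (w ^ k) := Commute.pow_right (mem_centralizer_singleton_iff.1 y.2) k
        have h4 := h3.map (MulAut.conj t)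
        rw [MulAut.conj_apply, MulAut.conj_apply, ht] at h4
        exact mem_centralizer_singleton_iff.2 h4
      refine ⟨⟨_, h2⟩, hU' _ (Subtype.ext ?_), rfl⟩
      have h3 : y ^ 5 ^ 3 = 1 := by
        rw [← hU]
        exact congrArg Subtype.val (pow_card_eq_one' (x := (⟨y, hy⟩ : U)))
      change (t * y * t⁻¹) ^ 5 ^ 3 = 1
      rw [conj_pow, ← coe_pow, h3, coe_one, mul_one, mul_inv_cancel]
  have hC : centralizer ({w} : Set G) ≤ normalizer ((P : Subgroup G) : Set G) := fun t ht => hN t 1 (by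
    rw [pow_one, mem_centralizer_singleton_iff.1 ht, mul_inv_cancel_right])
  let x : normalizer ((P : Subgroup G) : Set G) := ⟨w, hC (mem_centralizer_singleton_iff.2 rfl)⟩
  have h2 : 750 ≤ Nat.card (centralizer ({x} : Set (normalizer ((P : Subgroup G) : Set G)))) := by
    rw [← h1]
    exact Nat.card_le_card_of_injective (fun c => ⟨⟨c, hC c.2⟩, mem_centralizer_singleton_iff.2
      (Subtype.ext (mem_centralizer_singleton_iff.1 c.2))⟩) fun a b e => Subtype.ext (congrArg (fun z => z.1.1) e)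
  have h3 : 4 ≤ Nat.card {g // IsConj x g} := by
    have h4 : ∀ k : Fin 4, IsConj x (x ^ (k.1 + 1)) := fun k => by
      obtain ⟨t, ht⟩ := isConj_iff.1 (hone.conj hm (a := w ^ (k.1 + 1)) (by rw [T.pow, hw]; revert k; decide) hw)
      exact (isConj_iff.2 ⟨⟨t, hN t _ ht⟩, Subtype.ext ht⟩).symm
    refine (Nat.card_fin 4).ge.trans (Nat.card_le_card_of_injective (fun k => ⟨_, h4 k⟩) fun a b e => ?_)
    have h5 : w ^ (a.1 + 1) = w ^ (b.1 + 1) := congrArg (fun z => z.1.1) e
    have h6 := pow_injOn_Iio_orderOf (x := w) (by rw [ho, Set.mem_Iio]; omega) (by rw [ho, Set.mem_Iio]; omega) h5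
    exact Fin.ext (by omega)
  have h4 := card_class x
  have h5 := (normalizer ((P : Subgroup G) : Set G)).card_mul_index
  have h6 := Nat.mul_le_mul h3 h2
  refine ti_of_count (n := 37122624) P ?_ ?_
  · rw [show Nat.card (Sylow 5 G) = (normalizer ((P : Subgroup G) : Set G)).index from P.card_eq_index_normalizer, hP]
    have h7 := Nat.mul_le_mul_right (normalizer ((P : Subgroup G) : Set G)).index (h6.trans h4.le)
    omega
  · have h7 : ∀ y : G, T.ty y = 5 ∨ T.ty y = 6 → y ≠ 1 ∧ ∃ k, orderOf y = 5 ^ k := fun y hy => by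
      have h8 : orderOf y = 5 := by rcases hy with h | h <;> rw [T.ord, h] <;> rfl
      exact ⟨fun e => by rw [e, orderOf_one] at h8; omega, 1, h8⟩
    refine le_trans (by rw [Nat.card_sum, hm.2 5 (by decide), hm.2 6 (by decide)]; decide)
      (Nat.card_le_card_of_injective (Sum.elim (fun y : {g // T.ty g = 5} => ⟨y, h7 y (Or.inl y.2)⟩)
        fun y : {g // T.ty g = 6} => ⟨y, h7 y (Or.inr y.2)⟩) ?_)
    rintro (a | a) (b | b) e <;> have h8 : a.1 = b.1 := (congrArg Subtype.val e :)
    · rw [Subtype.ext h8]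
    · exact absurd (a.2.symm.trans (h8 ▸ b.2)) (by decide)
    · exact absurd (a.2.symm.trans (h8 ▸ b.2)) (by decide)
    · rw [Subtype.ext h8]

/-- **`3.McL`, `p = 5`** (and every cover) -/
theorem mcl_row {S : Type} [Group S] [Finite S] (h : Spor.IsoMcL S) : RowX XP 5 S := by
  have : Fact (Nat.Prime 5) := ⟨by norm_num⟩
  obtain ⟨e⟩ := h
  obtain ⟨f⟩ := H359.CT.McL.iso_K0
  obtain ⟨T, hm, -, hT, -⟩ := McL.tabK
  refine RowX.of_equiv (e.trans f.symm) fun K _ _ σ M B D H => ?_
  exact Hyp.not_XP_ti H (H.rt_of_reg (reg_of_tab hm hT (d := 2) (by decide +kernel))) (mcl_ti hm hT)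
    (H184.CCGen.pCore_eq_bot_of_quasisimple H.qs H.zp)

theorem mcl_3_5 : ∀ (S : Type) [Group S] [Finite S], Spor.IsoMcL S → Cov XP 3 5 S := fun _ _ _ h => (mcl_row h).cov 3

end Cfsg.Agent.BZ.C2
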