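import Cfsg.Agent.BZ.C3.Blk
import Cfsg.Agent.BZ.C6.Eng
import Cfsg.Agent.TAB.ON.Cov

/-!
# BZ, the cover `3.ON`, `p = 2`, two degrees of height zero (helper17)

The rows of norm one of `TAB.ON.Cov` lift to faithful irreducible characters of degrees `495` and `5643`; the defect class of a
faithful block has order prime to three modulo the centre, so that the defect group is not of order `8`.
-/

set_option autoImplicit false
set_option linter.unusedSectionVars false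
set_option maxHeartbeats 400000
set_option maxRecDepth 100000

namespace Cfsg.Agent.BZ.C2.OnT

open Cfsg Subgroup Cfsg.Agent.TAB Cfsg.Agent.TAB.Eng Cfsg.Agent.TAB.Use Cfsg.Agent.BZ.T Cfsg.Agent.Characters.Core
open Cfsg.Agent.OddOrderCharacters.VChar Cfsg.Agent.TAB.ON
open scoped ComplexConjugate

section gen

variable {r : ℕ} [hr : Fact r.Prime] {K S : Type} [Group K] [Group S] [Finite K] {σ : K →* S}

/-- the lift of a function which vanishes on the singular elements -/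
theorem exists_up0 (h : Comp.Ext r σ) (ν : σ.ker →* ℂˣ) {Ψ : S → ℂ} (h0 : ∀ g, r ∣ orderOf g → Ψ g = 0) :
    ∃ Φ : K → ℂ, Comp.Up r σ ν Ψ Φ := by
  classical
  obtain ⟨n, m, -, e⟩ := H658.RegPow.exists_regExp r K 0
  refine ⟨fun k => if hk : k * (k ^ r ^ n)⁻¹ ∈ σ.ker then (ν ⟨_, hk⟩ : ℂ) * Ψ (σ k) else 0, fun z s hs => ?_,
    fun k hk => ?_, h0⟩
  · have h1 : (z : K) * s * (((z : K) * s) ^ r ^ n)⁻¹ = z := by
      rw [← h.com z s, e.mul_pow_eq (h.com z s) (h.ord z), e.pow_of_not_dvd hs, h.com, mul_inv_cancel_right]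
    rw [dif_pos (h1.symm ▸ z.2), Comp.map_mul_ker]
    exact congrArg (fun y : σ.ker => (ν y : ℂ) * Ψ (σ s)) (Subtype.ext h1)
  · split_ifs
    · rw [h0 _ hk, mul_zero]
    · rfl

/-- the regular part of a character which vanishes over the singular elements -/
theorem exists_hy [Fintype S] (h : Comp.Ext r σ) {ν : σ.ker →* ℂˣ} (χ : IrrCharacter K) (o : Comp.Ov σ ν (χ : K → ℂ))
    (hv : ∀ x, r ∣ orderOf (σ x) → (χ : K → ℂ) x = 0) :
    ∃ A θ : S → ℂ, ON.Hy r A θ ∧ ∀ s, ¬ r ∣ orderOf s → (χ : K → ℂ) s = A (σ s) := by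
  classical
  obtain ⟨γ, h1, h2⟩ := Comp.exists_down h χ
  have hg := isIrr_isCharacter χ.2
  refine ⟨fun g => if r ∣ orderOf g then 0 else γ g, γ, ⟨h1, H55.PQ.gen_descend σ h.surj
    (Characters.Brauer.isGeneralizedCharacter_of_isCharacter (isCharacter_mul hg (isCharacter_conj hg))) fun x => ?_,
    fun g hg => if_neg hg, fun g hg => if_pos hg⟩, fun s hs => (h2 s hs).trans (if_neg (Comp.reg_map hs)).symm⟩
  by_cases hx : r ∣ orderOf (σ x)
  · simp only [if_pos hx, Pi.mul_apply, hv x hx, zero_mul]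
  · obtain ⟨z, s, hs, rfl⟩ := Comp.dec hx
    simp only [if_neg hx, Pi.mul_apply]
    rw [Comp.map_mul_ker, ← h2 s hs, o.mul h χ.2, map_mul]
    linear_combination (-((χ : K → ℂ) s * conj ((χ : K → ℂ) s))) * Comp.nu_conj (ν := ν) z

end gen

variable {p : ℕ} [hp : Fact p.Prime] {M : Ideal AlgInt} {K : Type} [Group K] [Finite K] {σ : K →* Spor.ON}
  {B : Set (IrrCharacter K)} {E : Subgroup K}

theorem conj3 (H : Hyp p M B E σ) (hc : Nat.card (center K) = 3) {g : K} (hg : 3 ∣ orderOf (σ g)) :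
    ∃ z ∈ center K, z ≠ 1 ∧ IsConj g (g * z) := by
  have h1 : Nontrivial (center K) := Finite.one_lt_card_iff_nontrivial.1 (by rw [hc]; norm_num)
  obtain ⟨z, hz⟩ := exists_ne (1 : center K)
  exact ⟨z, z.2, fun e => hz (Subtype.ext e), H253.QON.fixed ⟨H.surj, H.ker.le, H.qs.1.commutator_eq_top⟩
    (H.ker ▸ hc) hg z (H.ker.ge z.2)⟩

/-- the rows -/
noncomputable abbrev row (x : ℤ × List (ℤ × ℕ) × List (ℤ × ℕ)) : List ℤ :=
  rowC (tabON.rel.map Prod.snd) (covU.map Prod.fst) x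

/-- **a row of norm one is a faithful character** -/
theorem fd_row (H : Hyp p M B E σ) (hc : Nat.card (center K) = 3) (x : ℤ × List (ℤ × ℕ) × List (ℤ × ℕ)) (n : ℕ)
    (h1 : ip dON (row x) (row x) = dON.N * 1)
    (h2 : ∀ t < dON.n, (3 ∣ dON.ord t → nth (row x) t = 0 ∧ nth (comb (tabON.rel.map Prod.snd) x.2.2) t = 0) ∧
      (dON.ord t = 1 → nth (row x) t = n)) : Fd K n := by
  classical
  have : Fact (Nat.Prime 3) := ⟨Nat.prime_three⟩
  have := KFacts.ON.Cent.finite_ON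
  have := Fintype.ofFinite K
  have := Fintype.ofFinite Spor.ON
  obtain ⟨T, hm, -, hv, -⟩ := exists_tab
  have hr : ∀ r ∈ tabON.rel.map Prod.snd, Virt T (nth r) := fun r hr => by
    obtain ⟨y, hy, rfl⟩ := List.mem_map.1 hr
    exact hv y hy
  have hx := C1.ext H hc
  obtain ⟨ν, hν⟩ := C1.exists_nu H Nat.prime_three hc
  have hk := cov_ok
  simp only [okC, Bool.and_eq_true, decide_eq_true_eq] at hk
  obtain ⟨⟨⟨c1, -⟩, -⟩, -, -, c6⟩ := hk
  obtain ⟨Φ, u⟩ := exists_up0 hx ν (Ψ := fn T (row x)) fun g hg => by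
    rw [fn, ((h2 _ (T.lt g)).1 (T.ord g ▸ hg)).1, Int.cast_zero]
  have g1 : IsGeneralizedCharacter K Φ := gen_of_inner_int (u.cls hx fun g h => by simp only [fn, T.conj]) fun χ hχ => by
    by_cases o : Comp.Ov σ ν χ
    · obtain ⟨A, θ, HA, h3⟩ := exists_hy hx ⟨χ, hχ⟩ o fun y hy => by
        obtain ⟨z, hz, h3, h4⟩ := conj3 H hc hy
        have h5 := Blocks.Basic.irr_isConj hχ h4
        rw [cen_mul hχ hz, eq_comm] at h5
        by_contra h6
        rw [mul_eq_right₀ h6, div_eq_one_iff_eq (Blocks.Basic.irr_one_ne_zero hχ)] at h5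
        exact h3 (hν ⟨χ, hχ⟩ o z hz h5)
      obtain ⟨a, ha⟩ := int_comb (T := T) (A := A) (us := covU.map Prod.fst) (fun u hu => by
        obtain ⟨y, hy, rfl⟩ := List.mem_map.1 hu
        exact HA.int_u hm hr (ones T y hy) (allL_spec c1 y hy)) x.2.1
      obtain ⟨b, hb⟩ := HA.int_sing (Virt.comb hr x.2.2) fun s hs h4 => ((h2 s hs).1 h4).2
      have h5 : inn T A (nth (row x)) = (a + b : ℤ) := by
        rw [show nth (row x) = fun s => 1 * nth (comb (covU.map Prod.fst) x.2.1) s +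
          nth (comb (tabON.rel.map Prod.snd) x.2.2) s from funext fun s => by rw [one_mul, row, rowC, nth_addL], inn_lin, ha, hb]
        push_cast
        ring
      refine ⟨a + b, ?_⟩
      rw [u.inner_irr hx hχ o h3, ← classInner_conj_symm]
      exact (congrArg conj h5).trans (map_intCast _ _)
    · exact ⟨0, by_contra fun h3 => o (u.ov hx hχ fun h4 => h3 (h4.trans Int.cast_zero.symm))⟩
  have g2 : classInner Φ Φ = 1 := (u.inner hx u).trans ((inner_of_ip hm c6 h1).trans Int.cast_one)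
  have g3 : Φ 1 = n := by
    have h3 := u.reg 1 1 Comp.reg_one
    rw [OneMemClass.coe_one, mul_one, map_one, map_one, Units.val_one, one_mul, fn,
      (h2 _ (T.lt 1)).2 (by rw [← T.ord, orderOf_one]), Int.cast_natCast] at h3
    exact h3
  have g4 := C6.irr_of_norm1 g1 g2 g3
  exact ⟨⟨Φ, g4⟩, hν ⟨Φ, g4⟩ (u.ov hx g4 (by rw [g2]; exact one_ne_zero)), Blocks.Basic.charDegree_of_eq g3⟩

theorem fd495 (H : Hyp p M B E σ) (hc : Nat.card (center K) = 3) : Fd K 495 :=
  fd_row H hc (ntd covE (0, [], []) 0) 495 (by decide +kernel) (by decide +kernel)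

theorem fd5643 (H : Hyp p M B E σ) (hc : Nat.card (center K) = 3) : Fd K 5643 :=
  fd_row H hc (ntd covE (0, [], []) 2) 5643 (by decide +kernel) (by decide +kernel)

/-- a faithful block has no defect group of order `8` -/
theorem not_eight (H : Hyp 2 M B E σ) (hc : Nat.card (center K) = 3) : Nat.card E ≠ 8 := fun h8 => by
  have : Fact (Nat.Prime 2) := ⟨Nat.prime_two⟩
  have := KFacts.ON.Cent.finite_ON
  obtain ⟨T, hm, hr, -, hT⟩ := exists_tab
  obtain ⟨g, h1, h2, h3, h4⟩ := C3.defcl H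
  have h5 : σ g ≠ 1 := fun e => absurd (h4 e 4 (by rw [hm.1]; decide)) (by rw [h8]; decide)
  have h6 : 2 ^ 3 ∣ Nat.card (centralizer ({σ g} : Set Spor.ON)) := (H.ce.dvd_map H.cube_dvd).trans (card_dvd_of_le (by
    rintro _ ⟨d, hd, rfl⟩
    exact mem_centralizer_singleton_iff.2 ((h2 d hd).map σ)))
  have key : ∀ i < dON.n, ∀ j < dON.n, (¬ 2 ∣ dON.ord i ∧ dON.ord i ≠ 1 ∧ dON.ord j = 2 * dON.ord i) ∧
      dON.cnt i * 2 ^ 3 ∣ (dON.ord i).totient * dON.N → 3 ∣ dON.ord i ∨ i = 5 ∨ i = 7 := by decide +kernel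
  have a1 := Comp.reg_map (σ := σ) h1
  obtain ⟨x, hx⟩ := exists_prime_orderOf_dvd_card' 2 ((dvd_pow_self 2 three_ne_zero).trans h6)
  rw [← orderOf_coe] at hx
  have a2 := Commute.orderOf_mul_eq_mul_orderOf_of_coprime (mem_centralizer_singleton_iff.1 x.2)
    (by rw [hx]; exact Nat.prime_two.coprime_iff_not_dvd.2 a1)
  rcases key _ (T.lt (σ g)) _ (T.lt (x * σ g)) ⟨⟨T.ord _ ▸ a1, T.ord _ ▸ fun e => h5 (orderOf_eq_one_iff.1 e),
    by rw [← T.ord, ← T.ord, a2, hx]⟩, (Nat.mul_dvd_mul_left _ h6).trans (KM.Sp.rat_dvd hm hr _)⟩ with a3 | a3 | a3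
  · obtain ⟨z, hz, h7, h9⟩ := conj3 H hc (g := g) (T.ord _ ▸ a3)
    exact h7 (h3 z hz h9)
  · refine One.not_dvd hm ⟨_, ty_ord T H474.ONC.order_x5 (by decide +kernel), ?_⟩ (by decide +kernel) a3 h6
    rw [H474.ONC.card_cent_x5, H474.ONC.card_ON]
    decide +kernel
  · have a4 := KM.Sp.rat_dvd hm hr H210.ON3.C
    rw [H210.ON3.card_C] at a4
    refine One.not_dvd hm ⟨H210.ON3.C, (by decide +kernel : ∀ i < dON.n, 7 = dON.ord i →
      dON.cnt i * 1372 ∣ (dON.ord i).totient * dON.N → i = 7) _ (T.lt _) (H210.ON3.order_C.symm.trans (T.ord _)) a4, ?_⟩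
      (by decide +kernel) a3 h6
    rw [H210.ON3.card_C, H474.ONC.card_ON]
    decide +kernel

theorem on2T : Cov XT 3 2 Spor.ON := by
  have : Fact (Nat.Prime 2) := ⟨Nat.prime_two⟩
  obtain ⟨T, hm, -, -, hT⟩ := exists_tab
  have := KFacts.ON.Cent.finite_ON
  intro K _ _ σ M B D H hc
  exact (fd495 H hc).xt (fd5643 H hc) H
    ((eight_or H (reg_of_tab (p := 2) hm hT (d := 3) (by decide +kernel))).resolve_left (not_eight H hc)) (by decide)
    (by decide) (by decide)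

end Cfsg.Agent.BZ.C2.OnT

namespace Cfsg.Agent.BZ.C2

/-- **`3.ON`, `p = 2`** -/
theorem on_3_2T : ∀ (S : Type) [Group S] [Finite S], Spor.IsoON S → Cov XT 3 2 S := fun _ _ _ h =>
  h.elim fun e => OnT.on2T.of_equiv e

end Cfsg.Agent.BZ.C2
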